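import Cfsg.Agent.H548.CV.SpFour
import Cfsg.Agent.H374.SpFour

/-!
# S3442, cross characteristic, X8: `PSp_4(q)`, `q` odd (helper803)

`hit_psp4_odd` : `Hit r (PSp 2 F)`, `q = |F|` odd, `r` not the characteristic.  The element: `u = θ ^ n'` in
`GL_1(q ^ 2) ≤ GL_2(q)`, `(q ^ 2 - 1) / 2 = r ^ (k + 1) n'`, on the radical of the Siegel parabolic.
-/

set_option autoImplicit false
set_option linter.unusedSectionVars false

namespace Cfsg.Agent.H803.CV

open Matrix Cfsg Cfsg.Agent Cfsg.Agent.H373.CV Cfsg.Agent.H357.CV Cfsg.Agent.H548.CV Cfsg.Agent.H374.Quad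

universe u v

section arith

/-- the element orders prime to `p` -/
theorem om_cases {p q c N : ℕ} (hq : q = 2 * c + 1) (hp : p.Prime) (hp2 : p ≠ 2) (h : Om p q N) (hc : Nat.Coprime N p) :
    N ∣ 2 * c * (c + 1) ∨ N ∣ 2 * c * (c + 1) + 1 := by
  have e1 : q - 1 = 2 * c := by omega
  have e2 : q + 1 = 2 * (c + 1) := by omega
  have hg : Nat.gcd 2 (q - 1) = 2 := Nat.gcd_eq_left (by rw [e1]; exact dvd_mul_right 2 c)
  have e3 : (q ^ 2 - 1) / 2 = 2 * c * (c + 1) := by
    have : q ^ 2 = 2 * (2 * c * (c + 1)) + 1 := by rw [hq]; ring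
    omega
  have e4 : (q ^ 2 + 1) / 2 = 2 * c * (c + 1) + 1 := by
    have : q ^ 2 = 2 * (2 * c * (c + 1)) + 1 := by rw [hq]; ring
    omega
  rcases h with h | h | h | h | ⟨h, h1⟩ | ⟨h, -⟩
  · left
    rw [e1] at h
    exact (hc.dvd_of_dvd_mul_left h).mul_right _
  · left
    rw [e2] at h
    have := hc.dvd_of_dvd_mul_left h
    exact this.trans ⟨c, by ring⟩
  · left
    rwa [hg, e3] at h
  · right
    rwa [hg, e4] at h
  · left
    subst h
    have h2 : N = 1 := by
      have h3 : Nat.Coprime N 9 := by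
        have : 9 = 3 ^ 2 := by norm_num
        rw [this]
        exact hc.pow_right 2
      exact Nat.eq_one_of_dvd_coprimes h3 dvd_rfl h1
    rw [h2]
    exact one_dvd _
  · exact absurd h hp2

theorem om_left {p q c N : ℕ} (hq : q = 2 * c + 1) (h : N ∣ 2 * c * (c + 1)) : Om p q N := by
  have e1 : q - 1 = 2 * c := by omega
  have hg : Nat.gcd 2 (q - 1) = 2 := Nat.gcd_eq_left (by rw [e1]; exact dvd_mul_right 2 c)
  have e3 : (q ^ 2 - 1) / 2 = 2 * c * (c + 1) := by
    have : q ^ 2 = 2 * (2 * c * (c + 1)) + 1 := by rw [hq]; ring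
    omega
  right; right; left
  rw [hg, e3]
  exact h

theorem om_right {p q c N : ℕ} (hq : q = 2 * c + 1) (h : N ∣ 2 * c * (c + 1) + 1) : Om p q N := by
  have e1 : q - 1 = 2 * c := by omega
  have hg : Nat.gcd 2 (q - 1) = 2 := Nat.gcd_eq_left (by rw [e1]; exact dvd_mul_right 2 c)
  have e4 : (q ^ 2 + 1) / 2 = 2 * c * (c + 1) + 1 := by
    have : q ^ 2 = 2 * (2 * c * (c + 1)) + 1 := by rw [hq]; ring
    omega
  right; right; right; left
  rw [hg, e4]
  exact h

end arith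

section mat

variable {F : Type v} [Field F]

theorem mk_eq_one_iff {x : symplecticGroup (Fin 2) F} :
    QuotientGroup.mk' (Subgroup.center (symplecticGroup (Fin 2) F)) x = 1 ↔
      ∃ a : F, (x : Matrix (Fin 2 ⊕ Fin 2) (Fin 2 ⊕ Fin 2) F) = a • 1 := by
  rw [← MonoidHom.mem_ker, QuotientGroup.ker_mk', LieClassical.SympCenter.mem_center_iff]

theorem exists_sym {g : GL (Fin 2) F} (h1 : (g : Matrix (Fin 2) (Fin 2) F) ≠ 1)
    (h2 : (g : Matrix (Fin 2) (Fin 2) F) ≠ -1) :
    ∃ S : Matrix (Fin 2) (Fin 2) F, Sᵀ = S ∧ (g : Matrix (Fin 2) (Fin 2) F) * S * (g : Matrix (Fin 2) (Fin 2) F)ᵀ ≠ S := by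
  by_contra hcon
  push Not at hcon
  have k1 := hcon 1 transpose_one
  rw [mul_one] at k1
  have k2 : ∀ (S : Matrix (Fin 2) (Fin 2) F), Sᵀ = S →
      (g : Matrix (Fin 2) (Fin 2) F) * S = S * (g : Matrix (Fin 2) (Fin 2) F) := by
    intro S hS
    have h3 : (g : Matrix (Fin 2) (Fin 2) F)ᵀ * (g : Matrix (Fin 2) (Fin 2) F) = 1 := mul_eq_one_comm.1 k1
    have h4 := congrArg (fun X => X * (g : Matrix (Fin 2) (Fin 2) F)) (hcon S hS)
    simp only [mul_assoc, h3, mul_one] at h4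
    exact h4
  have k3 : ∀ i j : Fin 2, i ≠ j → (g : Matrix (Fin 2) (Fin 2) F) i j = 0 := by
    intro i j hij
    have h4 := congrFun (congrFun (k2 (Matrix.single j j 1) (by rw [transpose_single])) i) j
    rw [mul_single_apply_same, single_mul_apply_of_ne _ _ _ _ _ hij, mul_one] at h4
    exact h4
  have k4 : (g : Matrix (Fin 2) (Fin 2) F) 0 0 = (g : Matrix (Fin 2) (Fin 2) F) 1 1 := by
    have hij : (0 : Fin 2) ≠ 1 := by decide
    have h5 := congrFun (congrFun (k2 (Matrix.single 0 1 1 + Matrix.single 1 0 1) (by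
      rw [transpose_add, transpose_single, transpose_single, add_comm])) 0) 1
    rw [mul_add, add_mul, Matrix.add_apply, Matrix.add_apply, mul_single_apply_same,
      mul_single_apply_of_ne _ _ _ _ _ hij.symm, single_mul_apply_same,
      single_mul_apply_of_ne _ _ _ _ _ hij, add_zero, add_zero, mul_one, one_mul] at h5
    exact h5
  set a := (g : Matrix (Fin 2) (Fin 2) F) 0 0 with ha
  have k5 : (g : Matrix (Fin 2) (Fin 2) F) = a • 1 := by
    ext i j
    rw [Matrix.smul_apply, Matrix.one_apply, smul_eq_mul]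
    rcases eq_or_ne i j with rfl | hij
    · rw [if_pos rfl, mul_one]
      fin_cases i
      · rfl
      · exact k4.symm
    · rw [if_neg hij, mul_zero, k3 i j hij]
  rw [k5, transpose_smul, transpose_one, Matrix.smul_mul, Matrix.one_mul, smul_smul] at k1
  have k6 : a * a = 1 := by
    have := congrFun (congrFun k1 0) 0
    rwa [Matrix.smul_apply, Matrix.one_apply_eq, smul_eq_mul, mul_one] at this
  rcases mul_self_eq_one_iff.1 k6 with h | h
  · apply h1
    rw [k5, h, one_smul]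
  · apply h2
    rw [k5, h, neg_smul, one_smul]

/-- the commutator with an element of the radical -/
theorem not_comm {g : GL (Fin 2) F} (h1 : (g : Matrix (Fin 2) (Fin 2) F) ≠ 1)
    (h2 : (g : Matrix (Fin 2) (Fin 2) F) ≠ -1) :
    ∃ a ∈ (rad 2 F).map (QuotientGroup.mk' (Subgroup.center (symplecticGroup (Fin 2) F))),
      QuotientGroup.mk' (Subgroup.center (symplecticGroup (Fin 2) F)) (dg g) * a ≠
        a * QuotientGroup.mk' (Subgroup.center (symplecticGroup (Fin 2) F)) (dg g) := by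
  obtain ⟨S, hS, hne⟩ := exists_sym h1 h2
  refine ⟨_, ⟨sy S hS, ⟨S, hS, rfl⟩, rfl⟩, ?_⟩
  intro h
  rw [← map_mul, ← map_mul, ← mul_inv_eq_one, ← map_inv, ← map_mul, mk_eq_one_iff] at h
  obtain ⟨a, ha⟩ := h
  have e1 : dg g * sy S hS = sy ((g : Matrix (Fin 2) (Fin 2) F) * S * (g : Matrix (Fin 2) (Fin 2) F)ᵀ) (by
      rw [transpose_mul, transpose_mul, transpose_transpose, hS, mul_assoc]) * dg g := by
    rw [← dg_sy g S hS, inv_mul_cancel_right]
  have e2 : dg g * sy S hS * (sy S hS * dg g)⁻¹ =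
      sy ((g : Matrix (Fin 2) (Fin 2) F) * S * (g : Matrix (Fin 2) (Fin 2) F)ᵀ) (by
      rw [transpose_mul, transpose_mul, transpose_transpose, hS, mul_assoc]) * (sy S hS)⁻¹ := by
    rw [e1, _root_.mul_inv_rev, mul_assoc, mul_inv_cancel_left]
  rw [e2] at ha
  have e3 : (sy S hS)⁻¹ = sy (-S) (by rw [transpose_neg, hS]) := by
    rw [inv_eq_iff_mul_eq_one, sy_mul]
    apply Subtype.ext
    show fromBlocks _ _ _ _ = (1 : Matrix _ _ F)
    rw [add_neg_cancel, fromBlocks_one]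
  rw [e3, sy_mul] at ha
  have e4 : fromBlocks (1 : Matrix (Fin 2) (Fin 2) F)
      ((g : Matrix (Fin 2) (Fin 2) F) * S * (g : Matrix (Fin 2) (Fin 2) F)ᵀ + -S) 0 1 =
      a • (1 : Matrix (Fin 2 ⊕ Fin 2) (Fin 2 ⊕ Fin 2) F) := ha
  rw [← fromBlocks_one, fromBlocks_smul, smul_zero] at e4
  have e5 := (fromBlocks_inj.1 e4).2.1
  rw [← sub_eq_add_neg, sub_eq_zero] at e5
  exact hne e5

theorem sy_pow (S : Matrix (Fin 2) (Fin 2) F) (hS : Sᵀ = S) (n : ℕ) :
    sy S hS ^ n = sy (n • S) (by rw [transpose_smul, hS]) := by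
  induction n with
  | zero =>
    apply Subtype.ext
    show (1 : Matrix _ _ F) = fromBlocks _ _ _ _
    rw [zero_smul, fromBlocks_one]
  | succ n ih =>
    rw [pow_succ, ih, sy_mul]
    apply Subtype.ext
    show fromBlocks _ _ _ _ = fromBlocks _ _ _ _
    rw [succ_nsmul]

theorem dg_neg {g : GL (Fin 2) F} (h : (g : Matrix (Fin 2) (Fin 2) F) = -1) :
    QuotientGroup.mk' (Subgroup.center (symplecticGroup (Fin 2) F)) (dg g) = 1 := by
  rw [mk_eq_one_iff]
  refine ⟨-1, ?_⟩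
  have h1 : ((g⁻¹ : GL (Fin 2) F) : Matrix (Fin 2) (Fin 2) F) = -1 := by
    have h2 : (g : Matrix (Fin 2) (Fin 2) F) * ((g⁻¹ : GL (Fin 2) F) : Matrix (Fin 2) (Fin 2) F) = 1 :=
      congrArg Units.val (mul_inv_cancel g)
    rw [h, neg_mul, one_mul] at h2
    rw [← h2, neg_neg]
  show fromBlocks (g : Matrix (Fin 2) (Fin 2) F) 0 0 (((g⁻¹ : GL (Fin 2) F) : Matrix (Fin 2) (Fin 2) F)ᵀ) = _
  rw [h, h1, transpose_neg, transpose_one, ← fromBlocks_one, fromBlocks_smul, neg_smul, one_smul, smul_zero]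

end mat

/-- **X8: `PSp_4(F)`, `q = |F|` odd, cross characteristic.** -/
theorem hit_psp4_odd {F : Type v} [Field F] [Fintype F] (ho : Odd (Fintype.card F)) {r : ℕ} (hr : r.Prime)
    (hrF : ¬ r ∣ Fintype.card F) : Hit.{u, v} r (PSp 2 F) := by
  classical
  set p := ringChar F with hpd
  obtain ⟨n, hp, hcard⟩ := FiniteField.card F p
  have hfp : Fact p.Prime := ⟨hp⟩
  set q := Fintype.card F with hqd
  have hpq : p ∣ q := by rw [hcard]; exact dvd_pow_self p n.ne_zero
  have hp2 : p ≠ 2 := by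
    intro h
    rw [h] at hpq
    exact (Nat.not_even_iff_odd.2 ho) (even_iff_two_dvd.2 hpq)
  have hrp : r ≠ p := fun h => hrF (h ▸ hpq)
  have hq1 : 1 < q := Fintype.one_lt_card
  obtain ⟨c, hc⟩ := ho
  have hc1 : 1 ≤ c := by omega
  have hq3 : 3 ≤ q := by omega
  have hsim : IsSimpleGroup (PSp 2 F) := S0270.result 2 le_rfl (fun _ => hq3)
  have hfin : Finite (PSp 2 F) := by
    unfold PSp
    infer_instance
  have hspec := fun m => Cfsg.Agent.H374.SpFour.mem_range_iff (F := F) hq3 m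
  rw [← hpd, ← hqd] at hspec
  set M := 2 * c * (c + 1) with hM
  have hM0 : 0 < M := by positivity
  -- orders prime to `p`
  have hord : ∀ z : PSp 2 F, Nat.Coprime (orderOf z) p → orderOf z ∣ M ∨ orderOf z ∣ M + 1 := fun z hz =>
    om_cases hc hp hp2 ((hspec _).1 ⟨z, rfl⟩) hz
  have hex1 : ∀ {N : ℕ}, N ∣ M → ∃ z : PSp 2 F, orderOf z = N := fun h => (hspec _).2 (om_left hc h)
  have hex2 : ∀ {N : ℕ}, N ∣ M + 1 → ∃ z : PSp 2 F, orderOf z = N := fun h => (hspec _).2 (om_right hc h)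
  have hrpc : Nat.Coprime r p := (Nat.coprime_primes hr hp).2 hrp
  have h2M : 2 ∣ M := by rw [hM, mul_assoc]; exact dvd_mul_right _ _
  have hboth : ∀ {s : ℕ}, s.Prime → s ∣ M → ¬ s ∣ M + 1 := by
    intro s hs h1 h2
    exact hs.one_lt.ne' (Nat.dvd_one.1 ((Nat.dvd_add_right h1).1 h2))
  have hMp : Nat.Coprime (M + 1) p := by
    rw [Nat.coprime_comm, Nat.Prime.coprime_iff_not_dvd hp]
    intro h
    have h1 : p ∣ q ^ 2 + 1 := by
      have : q ^ 2 + 1 = 2 * (M + 1) := by rw [hc, hM]; ring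
      rw [this]
      exact h.mul_left 2
    have h2 := (Nat.dvd_add_right (hpq.trans (dvd_pow_self q two_ne_zero))).1 h1
    exact hp.one_lt.ne' (Nat.dvd_one.1 h2)
  by_cases hrM1 : r ∣ M + 1
  · -- TOOL D
    have hr2 : r ≠ 2 := by
      rintro rfl
      exact hboth hr h2M hrM1
    obtain ⟨z, hz⟩ := hex1 h2M
    obtain ⟨w, hw⟩ := hex2 hrM1
    have ho : ∀ y : PSp 2 F, orderOf y ≠ 2 * r := by
      intro y hy
      have h1 := hord y (by
        rw [hy]
        exact Nat.Coprime.mul_left ((Nat.coprime_primes Nat.prime_two hp).2 hp2.symm) hrpc)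
      rw [hy] at h1
      rcases h1 with h1 | h1
      · exact hboth hr ((Dvd.intro_left 2 rfl).trans h1) hrM1
      · exact hboth Nat.prime_two h2M ((Dvd.intro r rfl).trans h1)
    refine hit_of_two hr hr2 ⟨z, w, fun hzw => ?_⟩ hz ho
    have h1 : Commute z w := hzw
    refine ho (z * w) ?_
    rw [h1.orderOf_mul_eq_mul_orderOf_of_coprime, hz, hw]
    rw [hz, hw]
    exact (Nat.coprime_primes Nat.prime_two hr).2 (Ne.symm hr2)
  by_cases hrM : r ∣ M
  swap
  · -- `r` does not divide the order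
    apply Hit.of_not_dvd
    intro h
    have := Fact.mk hr
    obtain ⟨z, hz⟩ := exists_prime_orderOf_dvd_card' (G := PSp 2 F) r h
    rcases hord z (by rw [hz]; exact hrpc) with h1 | h1
    · exact hrM (hz ▸ h1)
    · exact hrM1 (hz ▸ h1)
  -- `r ∣ M`
  have hfr := Fact.mk hr
  obtain ⟨k', n', hn', hk'⟩ := Nat.exists_eq_pow_mul_and_not_dvd hM0.ne' r hr.ne_one
  have hk0 : k' ≠ 0 := by
    rintro rfl
    rw [pow_zero, one_mul] at hk'
    exact hn' (hk' ▸ hrM)
  obtain ⟨k, rfl⟩ := Nat.exists_eq_succ_of_ne_zero hk0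
  have hn0 : 0 < n' := by
    rcases Nat.eq_zero_or_pos n' with h | h
    · rw [h] at hn'
      exact absurd (dvd_zero r) hn'
    · exact h
  -- the element
  obtain ⟨K, _, _, ⟨b⟩⟩ := H514.DP.exists_ext (F := F) (n := 2) two_ne_zero
  have hK : Finite K := H514.DP.finite_ext b
  have hKc : Nat.card Kˣ = 2 * M := by
    rw [Nat.card_units, H514.DP.card_ext b, Nat.card_eq_fintype_card, ← hqd, hc, hM]
    have : (2 * c + 1) ^ 2 = 2 * (2 * c * (c + 1)) + 1 := by ring
    omega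
  obtain ⟨θ, hθ⟩ := IsCyclic.exists_ofOrder_eq_natCard (α := Kˣ)
  rw [hKc] at hθ
  let f : Kˣ →* GL (Fin 2) F := Units.map (Algebra.leftMulMatrix b : K →* Matrix (Fin 2) (Fin 2) F)
  have hf : ∀ w : Kˣ, ((f w : GL (Fin 2) F) : Matrix (Fin 2) (Fin 2) F) = Algebra.leftMulMatrix b (w : K) := fun w => rfl
  have hinj := Algebra.leftMulMatrix_injective b
  set pr := QuotientGroup.mk' (Subgroup.center (symplecticGroup (Fin 2) F)) with hpr
  set y : PSp 2 F := pr (dg (f (θ ^ n'))) with hy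
  have hpow : ∀ j : ℕ, y ^ j = pr (dg (f (θ ^ (n' * j)))) := by
    intro j
    rw [hy, ← map_pow, ← map_pow, ← map_pow, ← pow_mul]
  have hθM : ((θ ^ M : Kˣ) : K) = -1 := by
    have h1 : (θ ^ M) * (θ ^ M) = 1 := by
      rw [← pow_add, ← two_mul, ← hθ, pow_orderOf_eq_one]
    have h2 : θ ^ M ≠ 1 := by
      intro h
      have := Nat.le_of_dvd hM0 (hθ ▸ orderOf_dvd_of_pow_eq_one h)
      omega
    have h3 : ((θ ^ M : Kˣ) : K) * ((θ ^ M : Kˣ) : K) = 1 := by
      rw [← Units.val_mul, h1, Units.val_one]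
    rcases mul_self_eq_one_iff.1 h3 with h | h
    · exact absurd (Units.ext h) h2
    · exact h
  have hy1 : y ^ r ^ (k + 1) = 1 := by
    rw [hpow, mul_comm, ← hk']
    apply dg_neg
    rw [hf, hθM, map_neg, map_one]
  set w := θ ^ (n' * r ^ k) with hw
  have hw2 : w * w ≠ 1 := by
    intro h
    rw [hw, ← pow_add, ← two_mul] at h
    have h1 := orderOf_dvd_of_pow_eq_one h
    rw [hθ, Nat.mul_dvd_mul_iff_left (by norm_num)] at h1
    have h2 := Nat.le_of_dvd (Nat.mul_pos hn0 (pow_pos hr.pos k)) h1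
    rw [hk', pow_succ] at h2
    have h3 := hr.two_le
    have h4 : 0 < n' * r ^ k := Nat.mul_pos hn0 (pow_pos hr.pos k)
    nlinarith
  have hsq : Algebra.leftMulMatrix b (w : K) * Algebra.leftMulMatrix b (w : K) ≠ 1 := by
    intro h
    rw [← map_mul] at h
    apply hw2
    apply Units.ext
    apply hinj
    rw [Units.val_mul, h, Units.val_one, map_one]
  obtain ⟨a, ha, hne⟩ := not_comm (F := F) (g := f w) (by
      rw [hf]
      intro h
      exact hsq (by rw [h, mul_one])) (by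
      rw [hf]
      intro h
      exact hsq (by rw [h, neg_mul_neg, mul_one]))
  have hyk : y ^ r ^ k = pr (dg (f w)) := by rw [hpow, hw]
  rw [← hpr, ← hyk] at hne
  have hoy : orderOf y = r ^ (k + 1) := orderOf_eq_prime_pow (fun h => hne (by rw [h, one_mul, mul_one])) hy1
  obtain ⟨x0, hx0⟩ := hex2 (dvd_refl (M + 1))
  refine hit_of_ab hr ⟨x0, by rwa [hx0], ?_⟩ ((rad 2 F).map pr) ?_ ?_ y hoy ?_ ⟨a, ha, hne⟩ ?_
  · -- trivial module
    intro z hz
    rw [hx0] at hz
    rcases hord z (by rw [hz]; exact Nat.Coprime.mul_left hrpc hMp) with h | h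
    · rw [hz] at h
      have := Nat.le_of_dvd hM0 ((Dvd.intro_left r rfl).trans h)
      omega
    · rw [hz] at h
      have h1 := Nat.le_of_dvd (by omega) h
      have := hr.two_le
      nlinarith
  · rintro _ ⟨s, hs, rfl⟩ _ ⟨t, ht, rfl⟩
    rw [← map_mul, ← map_mul, rad_comm s hs t ht]
  · intro h1
    obtain ⟨a, ha⟩ := exists_prime_orderOf_dvd_card' (G := (rad 2 F).map pr) r h1
    obtain ⟨s, ⟨S, hS, rfl⟩, hsa⟩ := a.2
    have h2 : a ^ p = 1 := by
      apply Subtype.ext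
      rw [SubmonoidClass.coe_pow, ← hsa, ← map_pow, sy_pow, OneMemClass.coe_one]
      have h3 : p • S = 0 := by
        ext i j
        rw [Matrix.smul_apply, nsmul_eq_mul, CharP.cast_eq_zero F p, zero_mul]
        rfl
      have h4 : sy (p • S) (by rw [transpose_smul, hS]) = (1 : symplecticGroup (Fin 2) F) := by
        apply Subtype.ext
        show fromBlocks _ _ _ _ = (1 : Matrix _ _ F)
        rw [h3, fromBlocks_one]
      rw [h4, map_one]
    have h3 := orderOf_dvd_of_pow_eq_one h2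
    rw [ha] at h3
    exact hrp ((Nat.prime_dvd_prime_iff_eq hr hp).1 h3)
  · rintro _ ⟨s, hs, rfl⟩
    exact ⟨_, rad_conj (f (θ ^ n')) s hs, by rw [hy, map_mul, map_mul, map_inv]⟩
  · intro z hz
    rw [hoy, ← pow_succ'] at hz
    rcases hord z (by rw [hz]; exact hrpc.pow_left _) with h | h
    · rw [hz, hk', pow_succ r (k + 1)] at h
      exact hn' ((Nat.mul_dvd_mul_iff_left (pow_pos hr.pos _)).1 h)
    · rw [hz] at h
      exact hrM1 ((dvd_pow_self r (by omega)).trans h)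

/-- **X8** in the form of `XRows` -/
theorem x8 (F : Type) [Field F] [Fintype F] (ho : Odd (Fintype.card F)) (_ : 3 < Fintype.card F) (r : ℕ) (hr : r.Prime)
    (hrF : ¬ r ∣ Fintype.card F) : Hit.{u, 0} r (PSp 2 F) :=
  hit_psp4_odd ho hr hrF

end Cfsg.Agent.H803.CV
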