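import Cfsg.Agent.H375.LThree.Spec
import Cfsg.Agent.H350.Spec.PslFrob
import Cfsg.Agent.H357.CV.Tool

/-!
# S3442, cross characteristic, X16: `PSL_3(q)`, `q` odd (helper803)

* `ord_cases` : the element orders of `PSL_3(q)`, `q` odd;
* `hit_psl3` : `Hit r (PSL_3(F))`, `q = |F|` odd, `r` not the characteristic.
-/

set_option autoImplicit false
set_option linter.unusedSectionVars false

namespace Cfsg.Agent.H803.CV

open Polynomial Matrix Cfsg.Agent.H375.LThree

universe u v

section poly

variable {F : Type*} [Field F] [Fintype F] {v : ℕ} [hv : Fact v.Prime] [CharP F v]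

/-- **The five cases**, odd characteristic. -/
theorem five_cases_odd (h2 : v ≠ 2) {p : F[X]} (hm : p.Monic) (h3 : p.natDegree = 3) (h0 : p.coeff 0 = -1) :
    (∃ l : F, p ∣ X ^ nn (Fintype.card F) - C l) ∨ (∃ l : F, p ∣ X ^ xx (Fintype.card F) - C l) ∨
    (∃ l : F, p ∣ X ^ (Fintype.card F - 1) - C l) ∨ (∃ l : F, p ∣ X ^ (v * ee (Fintype.card F)) - C l) ∨
    (∃ l : F, p ∣ X ^ v - C l) := by
  classical
  have hv3 : 3 ≤ v := by
    have := hv.out.two_le
    omega
  set q := Fintype.card F with hq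
  have hq1 : 1 < q := Fintype.one_lt_card
  rcases natDegree_le_three_cases hm h3 with hirr | ⟨a, r, hrm, hr2, hpr⟩
  · -- irreducible
    left
    have h1 := irred_dvd hirr hm (N := q ^ 2 + q + 1) (by
      rw [h3, ← hq]; simp [Finset.sum_range_succ]; ring)
    rw [h3, h0] at h1
    have h2 : ((-1 : F)) ^ 3 * -1 = 1 := by norm_num
    rw [h2] at h1
    rcases dd_cases q with hd | hd
    · have h4 := dd_mul_nn q (by omega)
      rw [hd, one_mul] at h4
      exact ⟨1, by rw [h4]; exact h1⟩
    · have h4 := dd_mul_nn q (by omega)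
      have : Fact (Irreducible p) := ⟨hirr⟩
      have h5 : (AdjoinRoot.root p ^ nn q) ^ 3 = 1 := by
        rw [← pow_mul, mul_comm, ← hd, h4]
        have := AdjoinRoot.mk_eq_zero.mpr h1
        rw [map_sub, map_pow, AdjoinRoot.mk_X, C_1, map_one, sub_eq_zero] at this
        exact this
      have h6 : 3 ∣ q - 1 := by
        have := dd_dvd q
        rwa [hd] at this
      obtain ⟨c, hc⟩ := mem_of_pow_three h6 h5
      refine ⟨c, ?_⟩
      rw [← AdjoinRoot.mk_eq_zero, map_sub, map_pow, AdjoinRoot.mk_X, AdjoinRoot.mk_C, ← hc,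
        ← AdjoinRoot.algebraMap_eq, sub_self]
  · have ha0 : a * r.coeff 0 = 1 := by
      have : p.coeff 0 = -(a * r.coeff 0) := by
        rw [hpr, coeff_zero_eq_eval_zero, eval_mul, coeff_zero_eq_eval_zero]
        simp
      rw [h0] at this
      linear_combination this
    have ha : a ≠ 0 := by
      rintro rfl; simp at ha0
    have hδ : r.coeff 0 ≠ 0 := by
      intro h; rw [h, mul_zero] at ha0; exact zero_ne_one ha0
    rcases natDegree_two_cases hrm hr2 with hirr | ⟨b, c, hbc⟩
    · right; left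
      have h1 := irred_dvd hirr hrm (N := q + 1) (by
        rw [hr2, ← hq]; simp [Finset.sum_range_succ]; ring)
      rw [hr2] at h1
      have h2 : ((-1 : F)) ^ 2 * r.coeff 0 = r.coeff 0 := by norm_num
      rw [h2] at h1
      have : Fact (Irreducible r) := ⟨hirr⟩
      refine ⟨r.coeff 0 ^ ee q, ?_⟩
      rw [hpr]
      apply IsCoprime.mul_dvd
      · -- coprime
        have hcop := (irreducible_X_sub_C a).coprime_iff_not_dvd (p := X - C a) (n := r)
        refine hcop.mpr ?_
        intro hd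
        obtain ⟨s, hs⟩ := hd
        have := hirr.isUnit_or_isUnit hs
        rcases this with hu | hu
        · exact (irreducible_X_sub_C a).not_isUnit hu
        · have h5 : r.natDegree = (X - C a).natDegree + s.natDegree := by
            rw [hs]; exact natDegree_mul (X_sub_C_ne_zero a) (by rintro rfl; simp at hu)
          rw [hr2, natDegree_X_sub_C, natDegree_eq_zero_of_isUnit hu] at h5
          omega
      · apply sub_C_dvd
        have h5 : a ^ q = a := FiniteField.pow_card a
        have h6 : a ^ xx q = (a ^ 2) ^ ee q := by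
          rw [xx, pow_mul, pow_succ, h5]; ring_nf
        have h7 := pow_three_ee ha
        rw [← hq] at h7
        have h8 : (a * r.coeff 0) ^ ee q = 1 := by rw [ha0, one_pow]
        rw [mul_pow] at h8
        have h9 : (a ^ 2) ^ ee q * a ^ ee q = 1 := by
          rw [← mul_pow, ← pow_succ, ← pow_mul]; exact h7
        rw [h6]
        have hae : a ^ ee q ≠ 0 := pow_ne_zero _ ha
        apply mul_right_cancel₀ hae
        rw [h9, mul_comm, h8]
      · rw [← AdjoinRoot.mk_eq_zero] at h1 ⊢
        rw [map_sub, map_pow, AdjoinRoot.mk_X, AdjoinRoot.mk_C, sub_eq_zero] at h1 ⊢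
        rw [xx, pow_mul, h1, map_pow]
    · have habc : a * (b * c) = 1 := by
        have : r.coeff 0 = b * c := by
          rw [hbc, coeff_zero_eq_eval_zero, eval_mul]; simp
        rw [← this]; exact ha0
      have hb : b ≠ 0 := by rintro rfl; simp at habc
      have hc : c ≠ 0 := by rintro rfl; simp at habc
      have hp : p = (X - C a) * ((X - C b) * (X - C c)) := by rw [hpr, hbc]
      have hroot : ∀ {z : F}, z ≠ 0 → X - C z ∣ (X ^ (q - 1) - C 1 : F[X]) := fun {z} hz =>
        sub_C_dvd (FiniteField.pow_card_sub_one_eq_one z hz)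
      have hcop : ∀ {z w : F}, z ≠ w → IsCoprime (X - C z) (X - C w) := fun {z w} h =>
        isCoprime_X_sub_C_of_isUnit_sub (sub_ne_zero.mpr h).isUnit
      -- double root
      have hdouble : ∀ {z w : F}, z ≠ 0 → w ≠ 0 → z ≠ w → z * (z * w) = 1 →
          (X - C z) * ((X - C z) * (X - C w)) ∣ (X ^ (v * ee q) - C ((z ^ ee q) ^ v) : F[X]) := by
        intro z w hz hw hzw h
        have e1 : (X ^ (v * ee q) - C ((z ^ ee q) ^ v) : F[X]) = (X ^ ee q - C (z ^ ee q)) ^ v := by
          rw [sub_pow_char_of_commute v (Commute.all _ _), C_pow, C_pow]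
          ring
        have e2 : w ^ ee q = z ^ ee q := by
          have h7 := pow_three_ee hz
          rw [← hq] at h7
          have h8 : (z * (z * w)) ^ ee q = 1 := by rw [h, one_pow]
          have h9 : (z ^ ee q) ^ 2 ≠ 0 := pow_ne_zero _ (pow_ne_zero _ hz)
          apply mul_left_cancel₀ h9
          calc (z ^ ee q) ^ 2 * w ^ ee q = (z * (z * w)) ^ ee q := by rw [mul_pow, mul_pow]; ring
            _ = z ^ (3 * ee q) := by rw [h8, h7]
            _ = (z ^ ee q) ^ 2 * z ^ ee q := by rw [mul_comm 3, pow_mul]; ring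
        have d1 : (X - C z) ∣ (X ^ ee q - C (z ^ ee q) : F[X]) := sub_C_dvd rfl
        have d2 : (X - C w) ∣ (X ^ ee q - C (z ^ ee q) : F[X]) := sub_C_dvd e2
        rw [e1, ← mul_assoc, ← pow_two]
        apply IsCoprime.mul_dvd
        · exact IsCoprime.pow_left (hcop hzw)
        · exact (pow_dvd_pow_of_dvd d1 2).trans (pow_dvd_pow _ (by omega))
        · exact d2.trans (dvd_pow_self _ (by omega))
      by_cases hab : a = b
      · by_cases hac : a = c
        · -- all equal
          right; right; right; right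
          refine ⟨a ^ v, ?_⟩
          have e1 : (X ^ v - C (a ^ v) : F[X]) = (X - C a) ^ v := by
            rw [sub_pow_char_of_commute v (Commute.all _ _), C_pow]
          rw [hp, ← hab, ← hac, e1]
          have : (X - C a) * ((X - C a) * (X - C a)) = (X - C a) ^ 3 := by ring
          rw [this]
          exact pow_dvd_pow _ hv3
        · right; right; right; left
          refine ⟨(a ^ ee q) ^ v, ?_⟩
          rw [hp, ← hab]
          exact hdouble ha hc hac (by rw [hab] at habc ⊢; exact habc)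
      · by_cases hac : a = c
        · right; right; right; left
          refine ⟨(a ^ ee q) ^ v, ?_⟩
          have := hdouble ha hb hab (by rw [← hac] at habc; linear_combination habc)
          rw [hp, ← hac]
          convert this using 1
          ring
        · by_cases hbc' : b = c
          · right; right; right; left
            refine ⟨(b ^ ee q) ^ v, ?_⟩
            have := hdouble hb ha (Ne.symm hab) (by rw [← hbc'] at habc; linear_combination habc)
            rw [hp, ← hbc']
            convert this using 1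
            ring
          · right; right; left
            refine ⟨1, ?_⟩
            rw [hp]
            apply IsCoprime.mul_dvd
            · exact IsCoprime.mul_right (hcop hab) (hcop hac)
            · exact hroot ha
            · exact (hcop hbc').mul_dvd (hroot hb) (hroot hc)

/-- **the element orders of `PSL_3(q)`**, `q` odd -/
theorem ord_cases (h2 : v ≠ 2) (g : Matrix.ProjectiveSpecialLinearGroup (Fin 3) F) :
    orderOf g ∣ nn (Fintype.card F) ∨ orderOf g ∣ xx (Fintype.card F) ∨ orderOf g ∣ Fintype.card F - 1 ∨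
      orderOf g ∣ v * ee (Fintype.card F) ∨ orderOf g ∣ v := by
  obtain ⟨A, rfl⟩ := QuotientGroup.mk'_surjective _ g
  have hm := Matrix.charpoly_monic (A : Matrix (Fin 3) (Fin 3) F)
  have h3 : (A : Matrix (Fin 3) (Fin 3) F).charpoly.natDegree = 3 := by
    rw [Matrix.charpoly_natDegree_eq_dim, Fintype.card_fin]
  have h0 : (A : Matrix (Fin 3) (Fin 3) F).charpoly.coeff 0 = -1 := by
    have := Matrix.det_eq_sign_charpoly_coeff (A : Matrix (Fin 3) (Fin 3) F)
    rw [A.2, Fintype.card_fin] at this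
    have e : ((-1 : F)) ^ 3 = -1 := by norm_num
    rw [e] at this
    linear_combination this
  rcases five_cases_odd h2 hm h3 h0 with ⟨l, h⟩ | ⟨l, h⟩ | ⟨l, h⟩ | ⟨l, h⟩ | ⟨l, h⟩
  · exact Or.inl (orderOf_dvd_of_pow_eq_one (pow_eq_one_of_dvd h))
  · exact Or.inr (Or.inl (orderOf_dvd_of_pow_eq_one (pow_eq_one_of_dvd h)))
  · exact Or.inr (Or.inr (Or.inl (orderOf_dvd_of_pow_eq_one (pow_eq_one_of_dvd h))))
  · exact Or.inr (Or.inr (Or.inr (Or.inl (orderOf_dvd_of_pow_eq_one (pow_eq_one_of_dvd h)))))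
  · exact Or.inr (Or.inr (Or.inr (Or.inr (orderOf_dvd_of_pow_eq_one (pow_eq_one_of_dvd h)))))

end poly

section arith

/-- the primes dividing `nn q` -/
theorem prime_nn_facts {q s : ℕ} (hq : 1 ≤ q) (hs : s.Prime) (h : s ∣ nn q) : ¬ s ∣ q ^ 2 - 1 ∧ ¬ s ∣ q := by
  have h1 := dd_mul_nn q hq
  have h2 : s ∣ q ^ 2 + q + 1 := by rw [← h1]; exact h.mul_left _
  obtain ⟨k, rfl⟩ : ∃ k, q = k + 1 := ⟨q - 1, by omega⟩
  constructor
  · intro h3
    have e : (k + 1) ^ 2 - 1 = k * (k + 2) := by
      have : (k + 1) ^ 2 = k * (k + 2) + 1 := by ring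
      omega
    rw [e] at h3
    rcases (hs.dvd_mul).1 h3 with h4 | h4
    · have h5 : s ∣ 3 := by
        have h6 := (Nat.dvd_add_right (h4.mul_right (k + 3))).1 (by
          have : (k + 1) ^ 2 + (k + 1) + 1 = k * (k + 3) + 3 := by ring
          rwa [this] at h2)
        exact h6
      have h6 : s = 3 := (Nat.prime_dvd_prime_iff_eq hs Nat.prime_three).1 h5
      subst h6
      have h7 : dd (k + 1) = 3 := by
        unfold dd
        rw [Nat.add_sub_cancel]
        exact Nat.gcd_eq_left h4
      rw [h7] at h1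
      obtain ⟨c, hc⟩ := h4
      obtain ⟨e, he⟩ := h
      rw [he, hc] at h1
      have h8 : (3 * c + 1) ^ 2 + (3 * c + 1) + 1 = 9 * (c * c + c) + 3 := by ring
      rw [h8] at h1
      omega
    · have h5 : s ∣ 1 := by
        have h6 := (Nat.dvd_add_right (h4.mul_right (k + 1))).1 (by
          have : (k + 1) ^ 2 + (k + 1) + 1 = (k + 2) * (k + 1) + 1 := by ring
          rwa [this] at h2)
        exact h6
      exact hs.one_lt.ne' (Nat.dvd_one.1 h5)
  · intro h3
    have h5 : s ∣ 1 := by
      have h6 := (Nat.dvd_add_right (h3.mul_right (k + 2))).1 (by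
        have : (k + 1) ^ 2 + (k + 1) + 1 = (k + 1) * (k + 2) + 1 := by ring
        rwa [this] at h2)
      exact h6
    exact hs.one_lt.ne' (Nat.dvd_one.1 h5)

theorem xx_dvd' {q : ℕ} (hq : 1 ≤ q) : xx q ∣ q ^ 2 - 1 := ⟨dd q, by rw [mul_comm, dd_mul_xx q hq]⟩

theorem ee_dvd' {q : ℕ} : ee q ∣ q - 1 := ⟨dd q, by rw [mul_comm, dd_mul_ee q]⟩

theorem sub_dvd' {q : ℕ} : q - 1 ∣ q ^ 2 - 1 := by
  have := Nat.sub_dvd_pow_sub_pow q 1 2
  rwa [one_pow] at this

theorem one_lt_nn {q : ℕ} (hq : 3 ≤ q) : 1 < nn q := by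
  have h1 := dd_mul_nn q (by omega)
  have h2 := Nat.le_of_dvd (by norm_num) (dd_dvd_three q)
  by_contra h
  have h3 : nn q ≤ 1 := by omega
  have h4 := Nat.mul_le_mul h2 h3
  nlinarith

variable {q v r o : ℕ}

/-- no element order is a proper multiple of `nn q` -/
theorem not_nn (hq : 3 ≤ q) (hvq : v ∣ q) (hr : r.Prime)
    (h : o ∣ nn q ∨ o ∣ xx q ∨ o ∣ q - 1 ∨ o ∣ v * ee q ∨ o ∣ v) : o ≠ r * nn q := by
  rintro rfl
  have h1 := one_lt_nn hq
  obtain ⟨s, hs, hsn⟩ := Nat.exists_prime_and_dvd h1.ne'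
  obtain ⟨h2, h3⟩ := prime_nn_facts (by omega) hs hsn
  have h4 : s ∣ r * nn q := hsn.mul_left r
  have h5 : ¬ s ∣ v := fun h => h3 (h.trans hvq)
  rcases h with h | h | h | h | h
  · have h6 := Nat.le_of_dvd (by omega) h
    have := hr.two_le
    nlinarith
  · exact h2 ((h4.trans h).trans (xx_dvd' (by omega)))
  · exact h2 ((h4.trans h).trans sub_dvd')
  · rcases (hs.dvd_mul).1 (h4.trans h) with h6 | h6
    · exact h5 h6
    · exact h2 ((h6.trans ee_dvd').trans sub_dvd')
  · exact h5 (h4.trans h)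

/-- `r (q ^ 2 - 1) / d` is not an element order -/
theorem not_xx (hq : 3 ≤ q) (ho : Odd q) (hv : v.Prime) (hr : r.Prime) (hrv : r ≠ v)
    (h : o ∣ nn q ∨ o ∣ xx q ∨ o ∣ q - 1 ∨ o ∣ v * ee q ∨ o ∣ v) : o ≠ r * xx q := by
  rintro rfl
  have hd := dd_pos q
  have hde := dd_mul_ee q
  have he : 0 < ee q := by
    rcases Nat.eq_zero_or_pos (ee q) with h0 | h0
    · rw [h0, mul_zero] at hde
      omega
    · exact h0
  have hx : 0 < xx q := by
    unfold xx
    positivity
  have hr2 := hr.two_le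
  have hd3 := Nat.le_of_dvd (by norm_num) (dd_dvd_three q)
  rcases h with h | h | h | h | h
  · have h1 : 2 ∣ q ^ 2 + q + 1 := by
      rw [← dd_mul_nn q (by omega)]
      refine Dvd.dvd.mul_left (Dvd.dvd.trans ?_ h) _
      refine Dvd.dvd.mul_left ?_ _
      unfold xx
      refine Dvd.dvd.mul_right ?_ _
      obtain ⟨k, rfl⟩ := ho
      exact ⟨k + 1, by ring⟩
    obtain ⟨k, rfl⟩ := ho
    have h2 : (2 * k + 1) ^ 2 + (2 * k + 1) + 1 = 2 * (2 * k * k + 3 * k + 1) + 1 := by ring
    rw [h2] at h1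
    omega
  · have := Nat.le_of_dvd hx h
    nlinarith
  · rw [← hde] at h
    unfold xx at h
    have h1 := Nat.le_of_dvd (by positivity) h
    rw [← mul_assoc] at h1
    have h2 := Nat.le_of_mul_le_mul_right h1 he
    have h3 : 2 * 4 ≤ r * (q + 1) := Nat.mul_le_mul hr2 (by omega)
    omega
  · have h1 : r * (q + 1) ∣ v := by
      unfold xx at h
      rw [← mul_assoc] at h
      exact Nat.dvd_of_mul_dvd_mul_right he h
    exact hrv ((Nat.prime_dvd_prime_iff_eq hr hv).1 ((dvd_mul_right _ _).trans h1))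
  · exact hrv ((Nat.prime_dvd_prime_iff_eq hr hv).1 ((dvd_mul_right _ _).trans h))

end arith

/-- **X16: `PSL_3(F)`, `q = |F|` odd, cross characteristic.** -/
theorem hit_psl3 {F : Type v} [Field F] [Fintype F] (ho : Odd (Fintype.card F)) {r : ℕ} (hr : r.Prime)
    (hrF : ¬ r ∣ Fintype.card F) : Cfsg.Agent.H373.CV.Hit.{u, v} r (Matrix.ProjectiveSpecialLinearGroup (Fin 3) F) := by
  classical
  obtain ⟨s, hs⟩ := CharP.exists F
  have hsp : s.Prime := (CharP.char_is_prime_or_zero F s).resolve_right (CharP.char_ne_zero_of_finite F s)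
  have : Fact s.Prime := ⟨hsp⟩
  obtain ⟨k, -, hk⟩ := FiniteField.card F s
  set q := Fintype.card F with hq
  have hk0 : (k : ℕ) ≠ 0 := k.ne_zero
  have hsq : s ∣ q := by rw [hk]; exact dvd_pow_self _ hk0
  have hs2 : s ≠ 2 := by
    rintro rfl
    exact (Nat.not_even_iff_odd.2 ho) (even_iff_two_dvd.2 hsq)
  have hrs : r ≠ s := fun h => hrF (h ▸ hsq)
  have hq1 : 1 < q := Fintype.one_lt_card
  have hq3 : 3 ≤ q := by
    obtain ⟨m, hm⟩ := ho
    omega
  have hsimp := Cfsg.Agent.S0249.result (F := F) 3 (by norm_num)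
  have hfin : Finite (Matrix.ProjectiveSpecialLinearGroup (Fin 3) F) := inferInstance
  obtain ⟨U, c, hc, hU, hn, hfix⟩ := Cfsg.Agent.H350.PslFrob.frob_psl (F := F) (n := 3) (by norm_num)
  rw [← hq] at hc hU
  have hcx : orderOf c = xx q := by
    rw [hc]
    apply Nat.div_eq_of_eq_mul_right (Nat.gcd_pos_of_pos_left _ (by norm_num))
    exact (dd_mul_xx q (by omega)).symm
  have hoc : ∀ y : Matrix.ProjectiveSpecialLinearGroup (Fin 3) F, orderOf y ≠ r * orderOf c := by
    intro y
    rw [hcx]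
    exact not_xx hq3 ho hsp hr hrs (ord_cases hs2 y)
  refine Cfsg.Agent.H357.CV.hit_of_frob hr ?_ U ?_ ?_ c hn ?_ hoc
  · by_cases hrn : r ∣ nn q
    · refine ⟨c, ?_, hoc⟩
      rw [hcx]
      intro h
      exact (prime_nn_facts (by omega) hr hrn).1 (h.trans (xx_dvd' (by omega)))
    · obtain ⟨g, hg⟩ := exists_order_nn (F := F)
      rw [← hq] at hg
      refine ⟨g, by rwa [hg], fun y => ?_⟩
      rw [hg]
      exact not_nn hq3 hsq hr (ord_cases hs2 y)
  · intro hbot
    rw [hbot, Subgroup.card_bot] at hU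
    have := Nat.one_lt_pow (n := 3 - 1) (by norm_num) hq1
    omega
  · rw [hU]
    exact fun h => hrF (hr.dvd_of_dvd_pow h)
  · intro i hi a ha h
    have h1 : c ^ (i % orderOf c) = c ^ i := pow_mod_orderOf c i
    have h2 : 0 < i % orderOf c := by
      rcases Nat.eq_zero_or_pos (i % orderOf c) with h0 | h0
      · rw [h0, pow_zero] at h1
        exact absurd h1.symm hi
      · exact h0
    exact hfix _ h2 (Nat.mod_lt _ (orderOf_pos c)) a ha (by rw [h1, h])

/-- **X16** in the form of `XRows` -/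
theorem x16 (F : Type) [Field F] [Fintype F] (ho : Odd (Fintype.card F)) (r : ℕ) (hr : r.Prime) (hrF : ¬ r ∣ Fintype.card F) :
    Cfsg.Agent.H373.CV.Hit.{u, 0} r (Matrix.ProjectiveSpecialLinearGroup (Fin 3) F) :=
  hit_psl3 ho hr hrF

end Cfsg.Agent.H803.CV
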